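import Groth.Agent.RHomComplLib.FlatCompl
import Groth.Agent.DComplLib.Series
import Mathlib.Algebra.Homology.DerivedCategory.ShortExact
import Mathlib.RingTheory.AdicCompletion.Completeness

/-!
# Derived completion of a bounded complex is computed termwise
-/

set_option autoImplicit false
set_option linter.style.haveILetI false
set_option backward.isDefEq.respectTransparency false

universe u

open CategoryTheory Limits Pretriangulated
open scoped TensorProduct
attribute [local instance] HasDerivedCategory.standard

noncomputable section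

namespace Groth.Agent.CechComplLib

open Groth.Agent.DComplLib

variable {A : Type u} [CommRing A] (I : Ideal A)

/-- Adic completion. -/
def adicF : ModuleCat.{u} A ⥤ ModuleCat.{u} A where
  obj N := ModuleCat.of A (AdicCompletion I N)
  map f := ModuleCat.ofHom ((AdicCompletion.map I f.hom).restrictScalars A)
  map_id N := ModuleCat.hom_ext (LinearMap.ext fun x => LinearMap.congr_fun (AdicCompletion.map_id I N) x)
  map_comp f g := ModuleCat.hom_ext (LinearMap.ext fun x => (AdicCompletion.map_comp_apply I f.hom g.hom x).symm)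

instance additive_adicF : (adicF I).Additive where
  map_add {N N' f g} := ModuleCat.hom_ext (LinearMap.ext fun x => Subtype.ext (funext fun n => by
    obtain ⟨m, hm⟩ := Submodule.Quotient.mk_surjective _ (x.val n)
    show (AdicCompletion.map I (f.hom + g.hom) x).val n =
      (AdicCompletion.map I f.hom x).val n + (AdicCompletion.map I g.hom x).val n
    rw [AdicCompletion.map_val_apply, AdicCompletion.map_val_apply, AdicCompletion.map_val_apply, ← hm]
    rfl))

instance linear_adicF : (adicF I).Linear A where
  map_smul {N N'} f a := ModuleCat.hom_ext (LinearMap.ext fun x => Subtype.ext (funext fun n => by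
    obtain ⟨m, hm⟩ := Submodule.Quotient.mk_surjective _ (x.val n)
    show (AdicCompletion.map I (a • f.hom) x).val n = a • (AdicCompletion.map I f.hom x).val n
    rw [AdicCompletion.map_val_apply, AdicCompletion.map_val_apply, ← hm]
    rfl))

/-- The canonical map to the completion. -/
def adicη : 𝟭 (ModuleCat.{u} A) ⟶ adicF I where
  app N := ModuleCat.ofHom (AdicCompletion.of I N)
  naturality N N' f := ModuleCat.hom_ext (LinearMap.ext fun x => (AdicCompletion.map_of I f.hom x).symm)

/-- Termwise completion. -/
abbrev adicCx : DRing.Cx A ⥤ DRing.Cx A := (adicF I).mapHomologicalComplex (ComplexShape.up ℤ)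

/-- The canonical map to the termwise completion. -/
def adicηCx (K : DRing.Cx A) : K ⟶ (adicCx I).obj K where
  f i := (adicη I).app (K.X i)
  comm' i j _ := ((adicη I).naturality (K.d i j)).symm

theorem adicηCx_naturality {K L : DRing.Cx A} (φ : K ⟶ L) :
    φ ≫ adicηCx I L = adicηCx I K ≫ (adicCx I).map φ := by
  ext i : 1
  exact (adicη I).naturality (φ.f i)

variable [IsNoetherianRing A]

theorem mem_adicCx (K : DRing.Cx A) : (I : Set A) ⊆ dcIdealD (DRing.toD ((adicCx I).obj K)) := fun f hf =>
  mem_dcIdealD.2 fun n => by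
    haveI : ∀ i, IsAdicComplete I (((adicCx I).obj K).X i) := fun i =>
      AdicCompletion.isAdicComplete (I.fg_of_isNoetherianRing)
    exact (dc_homology ((adicCx I).obj K) (fun i => dc_of_isAdicComplete (I := I) hf) n).of_equiv
      (hQIso _ n).toLinearEquiv.symm

theorem linearMap_adic_ext {N : Type u} [AddCommGroup N] [Module A N]
    {L : AdicCompletion I N →ₗ[A] AdicCompletion I N}
    (h : ∀ x, L (AdicCompletion.of I N x) = AdicCompletion.of I N x) : L = LinearMap.id := by
  refine LinearMap.ext fun y => Subtype.ext (funext fun n => ?_)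
  obtain ⟨x, hx⟩ := Submodule.Quotient.mk_surjective _ (y.val n)
  have hy : y - AdicCompletion.of I N x ∈ (I ^ n • ⊤ : Submodule A (AdicCompletion I N)) := by
    rw [AdicCompletion.pow_smul_top_eq_ker_eval I.fg_of_isNoetherianRing, LinearMap.mem_ker]
    show (y - AdicCompletion.of I N x).val n = 0
    rw [AdicCompletion.val_sub_apply, ← hx, AdicCompletion.of_apply]
    exact sub_self _
  have h2 : L (y - AdicCompletion.of I N x) ∈ (I ^ n • ⊤ : Submodule A (AdicCompletion I N)) :=
    Submodule.smul_top_le_comap_smul_top (I ^ n) L hy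
  have h3 : L y - y ∈ (I ^ n • ⊤ : Submodule A (AdicCompletion I N)) := by
    rw [show L y - y = L (y - AdicCompletion.of I N x) - (y - AdicCompletion.of I N x) by rw [map_sub, h]; abel]
    exact sub_mem h2 hy
  rw [AdicCompletion.pow_smul_top_eq_ker_eval I.fg_of_isNoetherianRing, LinearMap.mem_ker] at h3
  exact sub_eq_zero.1 h3

variable [DRing.HasDerivedCompletion I]

theorem isCompl_single_tensor (M F : Type u) [AddCommGroup M] [Module A M] [Module.Finite A M] [AddCommGroup F]
    [Module A F] [Module.Flat A F] :
    IsCompl (I : Set A) ((DerivedCategory.singleFunctor (ModuleCat.{u} A) 0).map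
      ((adicη I).app (ModuleCat.of A (M ⊗[A] F)))) := by
  let N := ModuleCat.of A (M ⊗[A] F)
  let sF := DerivedCategory.singleFunctor (ModuleCat.{u} A) 0
  let η := DRing.toDerivedCompletion I (Dual.inD A (M ⊗[A] F))
  have hη := isCompl_toDerivedCompletion (I := I) (Dual.inD A (M ⊗[A] F))
  obtain ⟨hz, e, he⟩ := RHomComplLib.completion_tensor_flat I M F
  let τ := DerivedCategory.singleFunctorCompHomologyFunctorIso (ModuleCat.{u} A) 0
  let H := DerivedCategory.homologyFunctor (ModuleCat.{u} A) (0 : ℤ)
  have hdc : (I : Set A) ⊆ dcIdealD (sF.obj ((adicF I).obj N)) := fun f hf =>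
    mem_dcIdealD_of_iso (DerivedCategory.Q.mapIso
      ((HomologicalComplex.singleMapHomologicalComplex (adicF I) (ComplexShape.up ℤ) 0).app N))
      (mem_adicCx I _ hf)
  obtain ⟨φ, hφ⟩ := (hη.bij _ hdc).2 (sF.map ((adicη I).app N))
  change η ≫ φ = _ at hφ
  suffices IsIso φ by rw [← hφ]; exact hη.of_iso_target (asIso φ)
  rw [DerivedCategory.isIso_iff]
  intro n
  by_cases hn : n = 0
  · subst hn
    let ψ : Dual.HD A ((DRing.derivedCompletion I).obj (Dual.inD A (M ⊗[A] F))).obj 0 →ₗ[A] AdicCompletion I (M ⊗[A] F) :=
      (H.map φ ≫ τ.hom.app ((adicF I).obj N)).hom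
    have hψ : ∀ x, ψ (e.symm (AdicCompletion.of I _ x)) = AdicCompletion.of I _ x := fun x => by
      refine (congrArg ψ (e.symm_apply_eq.2 (he x).symm)).trans ?_
      have h1 : τ.inv.app N ≫ H.map η ≫ H.map φ ≫ τ.hom.app ((adicF I).obj N) = (adicη I).app N := by
        rw [← Functor.map_comp_assoc, hφ]
        exact (congrArg (τ.inv.app N ≫ ·) (τ.hom.naturality ((adicη I).app N))).trans
          (Iso.inv_hom_id_app_assoc τ N _)
      exact congr($(h1).hom x)
    have h2 : ψ ∘ₗ e.symm.toLinearMap = LinearMap.id := linearMap_adic_ext I hψ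
    have hb : Function.Bijective ψ := by
      have : ψ = e.toLinearMap := LinearMap.ext fun z => by
        have := LinearMap.congr_fun h2 (e z)
        rw [LinearMap.comp_apply, LinearEquiv.coe_coe, LinearEquiv.symm_apply_apply] at this
        exact this
      rw [this]
      exact e.bijective
    haveI : IsIso (H.map φ ≫ τ.hom.app ((adicF I).obj N)) := (ConcreteCategory.isIso_iff_bijective _).2 hb
    exact IsIso.of_isIso_comp_right (H.map φ) (τ.hom.app ((adicF I).obj N))
  · haveI := hz n hn
    have h2 : IsZero ((DerivedCategory.homologyFunctor (ModuleCat.{u} A) n).obj (sF.obj ((adicF I).obj N))) := by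
      rcases lt_or_gt_of_ne hn with h | h
      · exact DerivedCategory.isZero_of_isGE _ 0 n h
      · exact DerivedCategory.isZero_of_isLE _ 0 n h
    exact isIso_of_source_target_iso_zero _ (ModuleCat.isZero_of_subsingleton _).isoZero h2.isoZero

/-- Modules isomorphic to the tensor product of `M` with a flat module. -/
def FlatOver (M N : ModuleCat.{u} A) : Prop :=
  ∃ (F : Type u) (_ : AddCommGroup F) (_ : Module A F) (_ : Module.Flat A F), Nonempty (N ≃ₗ[A] M ⊗[A] F)

variable {M : ModuleCat.{u} A} [Module.Finite A M]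

theorem isCompl_single {N : ModuleCat.{u} A} (hN : FlatOver M N) (a : ℤ) :
    IsCompl (I : Set A) ((DerivedCategory.singleFunctor (ModuleCat.{u} A) a).map ((adicη I).app N)) := by
  obtain ⟨F, _, _, _, ⟨e⟩⟩ := hN
  let sF := DerivedCategory.singleFunctor (ModuleCat.{u} A) 0
  have h0 : IsCompl (I : Set A) (sF.map ((adicη I).app N)) := by
    let i : N ≅ ModuleCat.of A (M ⊗[A] F) := e.toModuleIso
    have h := ((isCompl_single_tensor I M F).of_iso (sF.mapIso i)).of_iso_target
      (sF.mapIso ((adicF I).mapIso i.symm))
    have e' : i.hom ≫ (adicη I).app _ ≫ (adicF I).map i.inv = (adicη I).app N := by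
      rw [← (adicη I).naturality]
      exact (Iso.hom_inv_id_assoc i ((adicη I).app N))
    rw [← e', Functor.map_comp, Functor.map_comp, ← Category.assoc]
    exact h
  let σ := (DerivedCategory.singleFunctors (ModuleCat.{u} A)).shiftIso (-a) a 0 (by omega)
  have hshift : IsCompl (I : Set A) ((sF.map ((adicη I).app N))⟦(-a)⟧') :=
    ⟨fun f hf => mem_dcIdealD_shift (h0.mem hf) (-a), fun E hE => bijective_precomp_shift _ (-a) h0.bij E hE⟩
  have key := (hshift.of_iso (σ.app N).symm).of_iso_target (σ.app ((adicF I).obj N))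
  have e' : ((σ.app N).symm.hom ≫ (sF.map ((adicη I).app N))⟦(-a)⟧') ≫ (σ.app ((adicF I).obj N)).hom =
      (DerivedCategory.singleFunctor (ModuleCat.{u} A) a).map ((adicη I).app N) := by
    refine (Category.assoc _ _ _).trans ?_
    exact (congrArg (σ.inv.app N ≫ ·) (σ.hom.naturality ((adicη I).app N))).trans
      (Iso.inv_hom_id_app_assoc σ N _)
  rw [← e']
  exact key

theorem adicηCx_single (N : ModuleCat.{u} A) (a : ℤ) :
    adicηCx I ((HomologicalComplex.single (ModuleCat.{u} A) (ComplexShape.up ℤ) a).obj N) ≫
        ((HomologicalComplex.singleMapHomologicalComplex (adicF I) (ComplexShape.up ℤ) a).app N).hom =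
      (HomologicalComplex.single (ModuleCat.{u} A) (ComplexShape.up ℤ) a).map ((adicη I).app N) := by
  refine HomologicalComplex.to_single_hom_ext ?_
  rw [HomologicalComplex.comp_f, Iso.app_hom, HomologicalComplex.singleMapHomologicalComplex_hom_app_self,
    HomologicalComplex.single_map_f_self]
  show (adicη I).app _ ≫ (adicF I).map _ ≫ _ = _
  rw [← Category.assoc, ← (adicη I).naturality]
  simp

theorem isCompl_adicCx_single {N : ModuleCat.{u} A} (hN : FlatOver M N) (a : ℤ) :
    IsCompl (I : Set A) (DerivedCategory.Q.map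
      (adicηCx I ((HomologicalComplex.single (ModuleCat.{u} A) (ComplexShape.up ℤ) a).obj N))) := by
  let i := (HomologicalComplex.singleMapHomologicalComplex (adicF I) (ComplexShape.up ℤ) a).app N
  have h := (isCompl_single I hN a).of_iso_target (DerivedCategory.Q.mapIso i).symm
  have e : adicηCx I ((HomologicalComplex.single (ModuleCat.{u} A) (ComplexShape.up ℤ) a).obj N) =
      (HomologicalComplex.single (ModuleCat.{u} A) (ComplexShape.up ℤ) a).map ((adicη I).app N) ≫ i.inv := by
    rw [Iso.eq_comp_inv]
    exact adicηCx_single I N a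
  rw [e, Functor.map_comp]
  exact h

theorem isCompl_of_isZero {X Y : Dual.D A} (hX : IsZero X) (hY : IsZero Y) (η : X ⟶ Y)
    (h : (I : Set A) ⊆ dcIdealD Y) : IsCompl (I : Set A) η :=
  ⟨h, fun _ _ => ⟨fun _ _ _ => hY.eq_of_src _ _, fun g => ⟨0, hX.eq_of_src _ _⟩⟩⟩

/-- The termwise completion is the derived completion. -/
theorem isCompl_adicηCx : ∀ (n : ℕ) (a : ℤ) (K : DRing.Cx A),
    (∀ i, i < a ∨ a + n ≤ i → IsZero (K.X i)) → (∀ i, IsZero (K.X i) ∨ FlatOver M (K.X i)) →
      IsCompl (I : Set A) (DerivedCategory.Q.map (adicηCx I K))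
  | 0, a, K, hz, _ => by
    have hK : ∀ i, IsZero (K.X i) := fun i => hz i (by omega)
    have h1 : IsZero K := (IsZero.iff_id_eq_zero K).2 (by ext i : 1; exact (hK i).eq_of_src _ _)
    have h2 : IsZero ((adicCx I).obj K) := (adicCx I).map_isZero h1
    exact isCompl_of_isZero I (DerivedCategory.Q.map_isZero h1) (DerivedCategory.Q.map_isZero h2) _ (mem_adicCx I K)
  | n + 1, a, K, hz, hP => by
    let sg := HomologicalComplex.single (ModuleCat.{u} A) (ComplexShape.up ℤ) a
    let π : K ⟶ sg.obj (K.X a) := HomologicalComplex.mkHomToSingle (𝟙 (K.X a)) fun j hj => by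
      rw [Category.comp_id]
      exact (hz j (Or.inl (by simp at hj; omega))).eq_of_src _ _
    haveI hπ : IsIso (π.f a) := by
      simp only [π, HomologicalComplex.mkHomToSingle_f, Category.id_comp]
      infer_instance
    let S : ShortComplex (DRing.Cx A) := ShortComplex.mk (kernel.ι π) π (kernel.condition _)
    have hsec : ∀ q, ∃ s, s ≫ π.f q = 𝟙 ((sg.obj (K.X a)).X q) := fun q => by
      by_cases hq : q = a
      · subst hq; exact ⟨inv (π.f q), IsIso.inv_hom_id _⟩
      · exact ⟨0, (HomologicalComplex.isZero_single_obj_X _ _ _ _ hq).eq_of_src _ _⟩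
    choose s hs using hsec
    let spl : ∀ q, (S.map (HomologicalComplex.eval (ModuleCat.{u} A) (ComplexShape.up ℤ) q)).Splitting := fun q =>
      have : Mono S.f := inferInstanceAs (Mono (kernel.ι _))
      have hm : Mono (S.map (HomologicalComplex.eval (ModuleCat.{u} A) (ComplexShape.up ℤ) q)).f :=
        inferInstanceAs (Mono ((HomologicalComplex.eval (ModuleCat.{u} A) (ComplexShape.up ℤ) q).map S.f))
      ShortComplex.Splitting.ofExactOfSection _
        ((ShortComplex.exact_of_f_is_kernel S (kernelIsKernel _)).map
          (HomologicalComplex.eval (ModuleCat.{u} A) (ComplexShape.up ℤ) q)) (s q) (hs q) hm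
    have hS : S.ShortExact := HomologicalComplex.shortExact_of_degreewise_shortExact _ fun q => (spl q).shortExact
    have hS' : (S.map (adicCx I)).ShortExact := HomologicalComplex.shortExact_of_degreewise_shortExact _ fun q =>
      ((spl q).map (adicF I)).shortExact
    have hXa : IsZero (S.X₁.X a) := by
      have h0 : S.f.f a = 0 := (cancel_mono (π.f a)).1
        ((congrArg (fun k => k.f a) S.zero).trans zero_comp.symm)
      exact (IsZero.iff_id_eq_zero _).2 ((spl a).f_r.symm.trans (by
        show S.f.f a ≫ _ = _
        rw [h0, zero_comp]))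
    have hXne : ∀ i, i ≠ a → Nonempty (S.X₁.X i ≅ K.X i) := fun i hi => by
      refine ⟨⟨S.f.f i, (spl i).r, (spl i).f_r, ?_⟩⟩
      have h := (spl i).id
      have hg : π.f i = 0 := (HomologicalComplex.isZero_single_obj_X _ _ _ _ hi).eq_of_tgt _ _
      change _ + π.f i ≫ _ = _ at h
      rw [hg, zero_comp, add_zero] at h
      exact h
    have ih := isCompl_adicηCx n (a + 1) S.X₁
      (fun i hi => by
        by_cases hia : i = a
        · subst hia; exact hXa
        · obtain ⟨e⟩ := hXne i hia
          exact (hz i (by push_cast; omega)).of_iso e)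
      (fun i => by
        by_cases hia : i = a
        · subst hia; exact Or.inl hXa
        · obtain ⟨e⟩ := hXne i hia
          rcases hP i with h | ⟨F, i1, i2, i3, ⟨e'⟩⟩
          · exact Or.inl (h.of_iso e)
          · exact Or.inr ⟨F, i1, i2, i3, ⟨e.toLinearEquiv.trans e'⟩⟩)
    have h3 : IsCompl (I : Set A) (DerivedCategory.Q.map (adicηCx I (sg.obj (K.X a)))) := by
      rcases hP a with h | h
      · exact isCompl_of_isZero I (DerivedCategory.Q.map_isZero (sg.map_isZero h))
          (DerivedCategory.Q.map_isZero ((adicCx I).map_isZero (sg.map_isZero h))) _ (mem_adicCx I _)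
      · exact isCompl_adicCx_single I h a
    let m : S ⟶ S.map (adicCx I) :=
      { τ₁ := adicηCx I S.X₁
        τ₂ := adicηCx I S.X₂
        τ₃ := adicηCx I S.X₃
        comm₁₂ := (adicηCx_naturality I S.f).symm
        comm₂₃ := (adicηCx_naturality I S.g).symm }
    refine ⟨mem_adicCx I K, fun E hE => ?_⟩
    exact bijective_precomp₃ (S := (I : Set A))
      (inv_rot_of_distTriang _ (DerivedCategory.triangleOfSES_distinguished hS))
      (inv_rot_of_distTriang _ (DerivedCategory.triangleOfSES_distinguished hS'))
      ((Pretriangulated.invRotate (Dual.D A)).map (DerivedCategory.triangleOfSES.map hS hS' m))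
      (fun E hE => bijective_precomp_shift _ (-1) h3.bij E hE) ih.bij E hE

end Groth.Agent.CechComplLib
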