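import Groth.Agent.CechComplLib.Quot
import Groth.Agent.TorsCoreflLib.Frob
import Groth.Agent.RHomComplLib.Cech

/-!
# The augmentation of the extended Čech complex and local cohomology
-/

set_option autoImplicit false
set_option linter.style.haveILetI false
set_option backward.isDefEq.respectTransparency false

universe u

open CategoryTheory Limits Pretriangulated CochainComplex DerCA
attribute [local instance] HasDerivedCategory.standard

noncomputable section

namespace Groth.Agent.CechComplLib

open Groth.Agent.TorsCoreflLib Groth.Agent.DComplLib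

variable {A : Type u} [CommRing A]

/-- The augmentation of the extended Čech complex. -/
def aug (M : ModuleCat.{u} A) : ∀ fs : List A,
    extCech M fs ⟶ (HomologicalComplex.single (ModuleCat.{u} A) (ComplexShape.up ℤ) 0).obj M
  | [] => 𝟙 _
  | f :: fs => mappingCocone.fst (locCxUnit (Submonoid.powers f) (extCech M fs)) ≫ aug M fs

variable [IsNoetherianRing A] (J : Ideal A) (F : ModuleCat.{u} A ⥤ ModuleCat.{u} A) [F.Additive] [F.Linear A]

/-- Augmentations are universal among maps from torsion objects. -/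
theorem bijective_postcomp_aug (M : ModuleCat.{u} A) {T : Dual.D A} (hT : PT J T) :
    ∀ fs : List A, (∀ f ∈ fs, f ∈ J) → Function.Bijective fun g : T ⟶ DRing.toD
      ((F.mapHomologicalComplex (ComplexShape.up ℤ)).obj (extCech M fs)) =>
        g ≫ DerivedCategory.Q.map ((F.mapHomologicalComplex (ComplexShape.up ℤ)).map (aug M fs))
  | [], _ => by
    simp only [aug, CategoryTheory.Functor.map_id]
    simp only [Category.comp_id]
    exact Function.bijective_id
  | f :: fs, h => by
    let F' := F.mapHomologicalComplex (ComplexShape.up ℤ)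
    let φ := locCxUnit (Submonoid.powers f) (extCech M fs)
    let S := (RHomComplLib.coconeSC φ).map F'
    have hS : S.ShortExact := HomologicalComplex.shortExact_of_degreewise_shortExact _ fun q =>
      ((RHomComplLib.coconeSplitting φ q).map F).shortExact
    haveI hiso : IsIso (f • 𝟙 S.X₁) := by
      haveI := RHomComplLib.isIso_smul_coconeSC φ fun i => RHomComplLib.bijective_smul_loc f ((extCech M fs).X i)
      have e : f • 𝟙 S.X₁ = F'.map (f • 𝟙 (RHomComplLib.coconeSC φ).X₁) := by
        ext i : 1
        show f • 𝟙 (F.obj _) = F.map (f • 𝟙 _)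
        rw [Functor.map_smul, CategoryTheory.Functor.map_id]
      rw [e]
      infer_instance
    haveI : IsIso (f • 𝟙 (DRing.toD S.X₁)) := by
      rw [← CategoryTheory.Functor.map_id, ← Functor.map_smul]
      infer_instance
    have hN : NoTors J ((DRing.toD S.X₁)⟦(1 : ℤ)⟧) :=
      (noTors_of_isIso J (h f List.mem_cons_self) _).shift J 1
    have h1 : Function.Bijective fun g : T ⟶ DRing.toD S.X₂ => g ≫ DerivedCategory.Q.map S.g :=
      postcomp_bijective J (rot_of_distTriang _ (DerivedCategory.triangleOfSES_distinguished hS)) hN hT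
    have h2 := bijective_postcomp_aug M hT fs fun g hg => h g (List.mem_cons_of_mem f hg)
    have e : (fun g : T ⟶ DRing.toD S.X₂ => g ≫ DerivedCategory.Q.map (F'.map (aug M (f :: fs)))) =
        (fun g => g ≫ DerivedCategory.Q.map (F'.map (aug M fs))) ∘ fun g => g ≫ DerivedCategory.Q.map S.g := by
      funext g
      show g ≫ DerivedCategory.Q.map (F'.map (mappingCocone.fst φ ≫ aug M fs)) = (g ≫ _) ≫ _
      rw [Functor.map_comp, Functor.map_comp, Category.assoc]
      rfl
    show Function.Bijective fun g : T ⟶ DRing.toD S.X₂ => g ≫ DerivedCategory.Q.map (F'.map (aug M (f :: fs)))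
    rw [e]
    exact h2.comp h1

omit [IsNoetherianRing A] in
theorem pt_of_homology [IsNoetherianRing A] {fs : List A} (hfs : Ideal.ofList fs = J) (K : DRing.Cx A)
    (h : ∀ (q : ℤ) (x : K.homology q), ∀ g ∈ fs, ∃ N : ℕ, g ^ N • x = 0) : PT J (DRing.toD K) := fun q x => by
  let e := (hQIso K q).toLinearEquiv
  have hle : J ≤ (Module.annihilator A (Submodule.span A {x})).radical := by
    rw [← hfs, Ideal.ofList, Ideal.span_le]
    intro g hg
    obtain ⟨N, hN⟩ := h q (e x) g hg
    refine ⟨N, Module.mem_annihilator.2 fun y => ?_⟩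
    obtain ⟨a, ha⟩ := Submodule.mem_span_singleton.1 y.2
    refine Subtype.ext ?_
    show g ^ N • (y : Dual.HD A (DRing.toD K) q) = 0
    rw [← ha, smul_comm]
    rw [show g ^ N • x = 0 from e.injective (by rw [map_smul, map_zero]; exact hN), smul_zero]
  obtain ⟨N, hN⟩ := Ideal.exists_pow_le_of_le_radical_of_fg hle (IsNoetherian.noetherian J)
  exact ⟨N, fun a ha => congrArg Subtype.val (Module.mem_annihilator.1 (hN ha) ⟨x, Submodule.mem_span_singleton_self x⟩)⟩

theorem pt_quot_extCech (I : Ideal A) (M : ModuleCat.{u} A) {fs : List A} (hfs : Ideal.ofList fs = J) :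
    PT J (DRing.toD ((quotCx I).obj (extCech M fs))) :=
  pt_of_homology J hfs _ fun q x g hg => by
    obtain ⟨N, -, hN⟩ := exists_pow_smul_eq_zero_quot I M fs q x
    exact ⟨N, hN g hg⟩

theorem pt_extCech (M : ModuleCat.{u} A) {fs : List A} (hfs : Ideal.ofList fs = J) :
    PT J (DRing.toD (extCech M fs)) :=
  pt_of_homology J hfs _ fun q x g hg => by
    obtain ⟨N, -, hN⟩ := ExtCechLib.exists_pow_smul_eq_zero M fs q x
    exact ⟨N, hN g hg⟩

variable [DRing.HasRgammaI J]

/-- A torsion object universal over `K` is `RΓ_J K`. -/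
theorem exists_iso_RgammaI {X K : Dual.D A} {e : X ⟶ K} (hX : PT J X)
    (he : ∀ T : Dual.D A, PT J T → Function.Bijective fun g : T ⟶ X => g ≫ e) :
    ∃ θ : X ≅ (DRing.RgammaI J).obj K, θ.hom ≫ (DRing.RgammaIε J).app K = e := by
  have hR : PT J ((DRing.RgammaI J).obj K) := torsion_RgammaI J K
  obtain ⟨u, hu⟩ := (comp_ε_bijective J X K hX).2 e
  obtain ⟨v, hv⟩ := (he _ hR).2 ((DRing.RgammaIε J).app K)
  change u ≫ _ = e at hu
  change v ≫ e = _ at hv
  exact ⟨⟨u, v, (he X hX).1 (by show (u ≫ v) ≫ e = 𝟙 X ≫ e; rw [Category.assoc, hv, hu, Category.id_comp]),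
    (comp_ε_bijective J _ K hR).1 (by
      show (v ≫ u) ≫ _ = 𝟙 _ ≫ _
      rw [Category.assoc, hu, hv, Category.id_comp])⟩, hu⟩

/-- `RΓ_J` of a reduction of a module. -/
theorem exists_iso_RgammaI_quot (I : Ideal A) (M : ModuleCat.{u} A) {fs : List A} (hfs : Ideal.ofList fs = J) :
    ∃ θ : DRing.toD ((quotCx I).obj (extCech M fs)) ≅
        (DRing.RgammaI J).obj ((DerivedCategory.singleFunctor (ModuleCat.{u} A) 0).obj ((quotF I).obj M)),
      θ.hom ≫ (DRing.RgammaIε J).app _ = DerivedCategory.Q.map ((quotCx I).map (aug M fs) ≫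
        ((HomologicalComplex.singleMapHomologicalComplex (quotF I) (ComplexShape.up ℤ) 0).app M).hom) := by
  refine exists_iso_RgammaI J (pt_quot_extCech J I M hfs) fun T hT => ?_
  let ι := DerivedCategory.Q.mapIso
    ((HomologicalComplex.singleMapHomologicalComplex (quotF I) (ComplexShape.up ℤ) 0).app M)
  have h := bijective_postcomp_aug J (quotF I) M hT fs fun g hg => hfs ▸ Ideal.subset_span hg
  have e : (fun g : T ⟶ DRing.toD ((quotCx I).obj (extCech M fs)) =>
      g ≫ DerivedCategory.Q.map ((quotCx I).map (aug M fs) ≫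
        ((HomologicalComplex.singleMapHomologicalComplex (quotF I) (ComplexShape.up ℤ) 0).app M).hom)) =
      ι.homToEquiv ∘ fun g => g ≫ DerivedCategory.Q.map ((quotCx I).map (aug M fs)) := by
    funext g
    rw [Functor.map_comp]
    exact (Category.assoc _ _ _).symm
  rw [e]
  exact ι.homToEquiv.bijective.comp h

/-- `RΓ_J` of a module. -/
theorem exists_iso_RgammaI_extCech (M : ModuleCat.{u} A) {fs : List A} (hfs : Ideal.ofList fs = J) :
    ∃ θ : DRing.toD (extCech M fs) ≅
        (DRing.RgammaI J).obj ((DerivedCategory.singleFunctor (ModuleCat.{u} A) 0).obj M),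
      θ.hom ≫ (DRing.RgammaIε J).app _ = DerivedCategory.Q.map (aug M fs) := by
  refine exists_iso_RgammaI J (pt_extCech J M hfs) fun T hT => ?_
  exact bijective_postcomp_aug J (𝟭 _) M hT fs fun g hg => hfs ▸ Ideal.subset_span hg

end Groth.Agent.CechComplLib
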