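import Groth.Agent.CechComplLib.Quot
import Mathlib.RingTheory.Filtration
import Mathlib.LinearAlgebra.Matrix.Charpoly.LinearMap

/-!
# The kernel of the map to the completion of a localisation
-/

set_option autoImplicit false
set_option linter.style.haveILetI false
set_option backward.isDefEq.respectTransparency false

universe u

open CategoryTheory DerCA Polynomial

noncomputable section

namespace Groth.Agent.CechComplLib

variable {A : Type u} [CommRing A] (I : Ideal A)

/-- Annihilated, for each member of the list, by one of its powers modulo `I`. -/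
def Cond (fs : List A) {N : Type u} [AddCommGroup N] [Module A N] (y : N) : Prop :=
  ∀ f ∈ fs, ∃ k : ℕ, ∃ i ∈ I, (f ^ k + i) • y = 0

theorem cond_iff_of_injective {fs : List A} {N N' : Type u} [AddCommGroup N] [Module A N] [AddCommGroup N']
    [Module A N'] {e : N →ₗ[A] N'} (he : Function.Injective e) (y : N) : Cond I fs (e y) ↔ Cond I fs y := by
  refine forall₂_congr fun f _ => exists_congr fun k => exists_congr fun i => and_congr_right fun _ => ?_
  rw [← map_smul, map_eq_zero_iff e he]

theorem cond_cons {f : A} {fs : List A} {N : Type u} [AddCommGroup N] [Module A N] (y : N) :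
    Cond I (f :: fs) y ↔ (∃ k : ℕ, ∃ i ∈ I, (f ^ k + i) • y = 0) ∧ Cond I fs y :=
  List.forall_mem_cons

theorem mem_smul_top_of_smul_eq_zero {f : A} {N : ModuleCat.{u} A} {x : N} {k : ℕ} {i : A} (hi : i ∈ I)
    (h : (f ^ k + i) • x = 0) : ∀ n : ℕ, LocalizedModule.mkLinearMap (Submonoid.powers f) N x ∈
      (I ^ n • ⊤ : Submodule A (LocalizedModule (Submonoid.powers f) N))
  | 0 => by simp
  | n + 1 => by
    let u : N →ₗ[A] LocalizedModule (Submonoid.powers f) N := LocalizedModule.mkLinearMap (Submonoid.powers f) N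
    have ih := mem_smul_top_of_smul_eq_zero hi h n
    obtain ⟨e, he⟩ := IsLocalizedModule.map_units u (⟨f ^ k, k, rfl⟩ : Submonoid.powers f)
    have h1 : f ^ k • u x = -(i • u x) := by
      rw [eq_neg_iff_add_eq_zero, ← add_smul, ← map_smul, h, map_zero]
    have h2 : f ^ k • u x ∈ (I ^ (n + 1) • ⊤ : Submodule A (LocalizedModule (Submonoid.powers f) N)) := by
      rw [h1, pow_succ', ← smul_smul]
      exact neg_mem (Submodule.smul_mem_smul hi ih)
    have h3 := Submodule.smul_top_le_comap_smul_top (I ^ (n + 1))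
      ((e⁻¹ : _ˣ) : Module.End A (LocalizedModule (Submonoid.powers f) N)) h2
    rw [Submodule.mem_comap] at h3
    have h4 := LinearMap.congr_fun e.inv_mul (u x)
    rw [Module.End.mul_apply, he] at h4
    exact h4 ▸ h3

/-- Krull intersection in a localisation. -/
theorem mem_iInf_loc_iff [IsNoetherianRing A] (f : A) (N : ModuleCat.{u} A) [Module.Finite A N] (x : N) :
    (∀ n : ℕ, LocalizedModule.mkLinearMap (Submonoid.powers f) N x ∈
      (I ^ n • ⊤ : Submodule A (LocalizedModule (Submonoid.powers f) N))) ↔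
    ∃ k : ℕ, ∃ i ∈ I, (f ^ k + i) • x = 0 := by
  refine ⟨fun hx => ?_, fun ⟨k, i, hi, h⟩ n => mem_smul_top_of_smul_eq_zero I hi h n⟩
  let P : Submodule A N :=
    { carrier := {y | ∀ n : ℕ, ∃ k : ℕ, f ^ k • y ∈ (I ^ n • ⊤ : Submodule A N)}
      zero_mem' := fun n => ⟨0, by simp⟩
      add_mem' := fun {y z} hy hz n => by
        obtain ⟨k, hk⟩ := hy n
        obtain ⟨l, hl⟩ := hz n
        refine ⟨k + l, ?_⟩
        rw [smul_add]
        refine add_mem ?_ ?_
        · rw [add_comm, pow_add, mul_smul]; exact Submodule.smul_mem _ _ hk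
        · rw [pow_add, mul_smul]; exact Submodule.smul_mem _ _ hl
      smul_mem' := fun a y hy n => by
        obtain ⟨k, hk⟩ := hy n
        exact ⟨k, by rw [smul_comm]; exact Submodule.smul_mem _ _ hk⟩ }
  have hxP : x ∈ P := fun n => by
    obtain ⟨t, w, hw, e⟩ := exists_smul_mem (I ^ n) (Submonoid.powers f) (hx n)
    have e' : LocalizedModule.mkLinearMap (Submonoid.powers f) N ((t : A) • x) =
        LocalizedModule.mkLinearMap (Submonoid.powers f) N w := by rw [map_smul]; exact e
    obtain ⟨t', ht'⟩ := IsLocalizedModule.exists_of_eq (S := Submonoid.powers f)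
      (f := LocalizedModule.mkLinearMap (Submonoid.powers f) N) e'
    obtain ⟨a, ha⟩ := t.2
    obtain ⟨b, hb⟩ := t'.2
    refine ⟨b + a, ?_⟩
    rw [pow_add, mul_smul, show f ^ a = (t : A) from ha, show f ^ b = (t' : A) from hb,
      show (t' : A) • (t : A) • x = (t' : A) • w from ht']
    exact Submodule.smul_mem _ _ hw
  obtain ⟨c, hc⟩ := Ideal.exists_pow_inf_eq_pow_smul I P
  let Q : ℕ →o Submodule A N :=
    ⟨fun k => (I • P).comap (f ^ k • LinearMap.id), fun k l hkl y hy => by
      simp only [Submodule.mem_comap, LinearMap.smul_apply, LinearMap.id_apply] at hy ⊢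
      obtain ⟨d, rfl⟩ := Nat.exists_eq_add_of_le hkl
      rw [add_comm, pow_add, mul_smul]
      exact Submodule.smul_mem _ _ hy⟩
  obtain ⟨K, hK⟩ := monotone_stabilizes_iff_noetherian.2 (inferInstance : IsNoetherian A N) Q
  have hPQ : ∀ y ∈ P, f ^ K • y ∈ I • P := fun y hy => by
    obtain ⟨k, hk⟩ := hy (c + 1)
    have h1 : f ^ k • y ∈ I ^ (c + 1) • ⊤ ⊓ P := ⟨hk, P.smul_mem _ hy⟩
    rw [hc (c + 1) (Nat.le_succ c), show c + 1 - c = 1 by omega, pow_one] at h1
    have h2 : y ∈ Q k := (Submodule.smul_mono le_rfl inf_le_right : _ ≤ I • P) h1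
    have h3 : y ∈ Q (max k K) := Q.monotone (le_max_left k K) h2
    rw [← hK (max k K) (le_max_right k K)] at h3
    exact h3
  have hrange : LinearMap.range (f ^ K • LinearMap.id : Module.End A P) ≤ I • ⊤ := by
    rintro _ ⟨y, rfl⟩
    have h := hPQ y y.2
    rw [show I • P = Submodule.map P.subtype (I • ⊤ : Submodule A P) by
      rw [Submodule.map_smul'', Submodule.map_subtype_top]] at h
    obtain ⟨z, hz, e⟩ := h
    rw [show (f ^ K • LinearMap.id : Module.End A P) y = z from Subtype.ext e.symm]
    exact hz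
  obtain ⟨p, hm, -, hcoe, hp⟩ :=
    LinearMap.exists_monic_and_natDegree_eq_and_coeff_mem_pow_and_aeval_eq_zero A _ I hrange
  refine ⟨K * p.natDegree, p.eval (f ^ K) - (f ^ K) ^ p.natDegree, ?_, ?_⟩
  · rw [Polynomial.eval_eq_sum_range, Finset.sum_range_succ, hm.coeff_natDegree, one_mul, add_sub_cancel_right]
    refine Ideal.sum_mem I fun j hj => Ideal.mul_mem_right _ _ ?_
    exact Ideal.pow_le_self (by have := Finset.mem_range.1 hj; omega) (hcoe j)
  · rw [← pow_mul, add_sub_cancel]
    have e : (f ^ K • LinearMap.id : Module.End A P) = algebraMap A (Module.End A P) (f ^ K) := by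
      rw [Algebra.algebraMap_eq_smul_one]
      rfl
    rw [e, Polynomial.aeval_algebraMap_apply_eq_algebraMap_eval] at hp
    have := LinearMap.congr_fun hp ⟨x, hxP⟩
    exact congrArg Subtype.val this

end Groth.Agent.CechComplLib
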