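import Groth.Agent.CechComplLib.Main
import Groth.Agent.CechComplLib.Krull
import Groth.Agent.FiniteCompleteLib.Basic

/-!
# The degree zero cohomology of the completion of local cohomology
-/

set_option autoImplicit false
set_option linter.style.haveILetI false
set_option backward.isDefEq.respectTransparency false

universe u

open CategoryTheory Limits Pretriangulated DerCA CochainComplex CochainComplex.HomComplex
attribute [local instance] HasDerivedCategory.standard

noncomputable section

namespace Groth.Agent.CechComplLib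

open Groth.Agent.DComplLib Groth.Agent.LocCohLib

variable {A : Type u} [CommRing A] (I : Ideal A)

theorem δ_cocone_snd {K L : DRing.Cx A} (φ : K ⟶ L) :
    δ (-1) 0 (mappingCocone.snd φ) = - Cochain.ofHom (mappingCocone.fst φ ≫ φ) := by
  rw [mappingCocone.snd, Cochain.δ_leftShift _ (-1) (-1) 0 _ 1 (by omega), mappingCone.δ_snd]
  simp [mappingCocone.fst, Cochain.leftShift_comp_zero_cochain, Cochain.leftShift_neg]

theorem cocone_fst_f_bijective {K L : DRing.Cx A} (φ : K ⟶ L) (h : Subsingleton (L.X (-1))) :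
    Function.Bijective ((mappingCocone.fst φ).f 0) := by
  refine ⟨fun x y hxy => ?_, fun y => ⟨(mappingCocone.inl φ).v 0 0 (add_zero 0) y,
    congr($(mappingCocone.inl_v_fst_f φ 0).hom y)⟩⟩
  have e : ∀ w, (mappingCocone.inl φ).v 0 0 (add_zero 0) ((mappingCocone.fst φ).f 0 w) +
      (mappingCocone.inr φ).1.v (-1) 0 (by omega) ((mappingCocone.snd φ).v 0 (-1) (by omega) w) = w := fun w =>
    congr($(mappingCocone.id_X φ 0 (-1) (by omega)).hom w)
  rw [← e x, ← e y, hxy, @Subsingleton.elim _ h ((mappingCocone.snd φ).v 0 (-1) (by omega) x) _]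

theorem cocone_d_snd {K L : DRing.Cx A} (φ : K ⟶ L) (h : Subsingleton (L.X (-1))) (w : (mappingCocone φ).X 0) :
    (mappingCocone.snd φ).v 1 0 (by omega) ((mappingCocone φ).d 0 1 w) =
      -(φ.f 0 ((mappingCocone.fst φ).f 0 w)) := by
  have e := Cochain.congr_v (δ_cocone_snd φ) 0 0 (add_zero 0)
  rw [δ_v (-1) 0 (by omega) _ 0 0 (add_zero 0) (-1) 1 (by omega) (by omega)] at e
  have e' := congr($(e).hom w)
  simp only [Int.negOnePow_zero, one_smul, Cochain.neg_v, Cochain.ofHom_v, HomologicalComplex.comp_f,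
    ModuleCat.hom_add, ModuleCat.hom_neg, ModuleCat.hom_comp, LinearMap.add_apply, LinearMap.neg_apply,
    LinearMap.comp_apply] at e'
  rw [@Subsingleton.elim _ h ((mappingCocone.snd φ).v 0 (-1) (by omega) w) 0, map_zero, zero_add] at e'
  exact e'

theorem subsingleton_extCech_neg (M : ModuleCat.{u} A) (fs : List A) (q : ℤ) (hq : q < 0) :
    Subsingleton ((extCech M fs).X q) :=
  ModuleCat.subsingleton_of_isZero (ExtCechLib.isZero_extCech_X M fs q (Or.inl hq))

theorem subsingleton_loc_extCech_neg (M : ModuleCat.{u} A) (fs : List A) (T : Submonoid A) :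
    Subsingleton (((locCx T).obj (extCech M fs)).X (-1)) :=
  ModuleCat.subsingleton_of_isZero ((locFunctor T).map_isZero
    (ExtCechLib.isZero_extCech_X M fs (-1) (Or.inl (by omega))))

theorem bijective_aug_f (M : ModuleCat.{u} A) : ∀ fs : List A, Function.Bijective ((aug M fs).f 0)
  | [] => Function.bijective_id
  | f :: fs => (bijective_aug_f M fs).comp
      (cocone_fst_f_bijective _ (subsingleton_loc_extCech_neg M fs (Submonoid.powers f)))

theorem finite_extCech_zero (M : ModuleCat.{u} A) [Module.Finite A M] (fs : List A) :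
    Module.Finite A ((extCech M fs).X 0) :=
  Module.Finite.equiv ((LinearEquiv.ofBijective ((aug M fs).f 0).hom (bijective_aug_f M fs)).trans
    (HomologicalComplex.singleObjXSelf (ComplexShape.up ℤ) 0 M).toLinearEquiv).symm

theorem map_mem_smul_top {N N' : Type u} [AddCommGroup N] [Module A N] [AddCommGroup N'] [Module A N']
    (J : Ideal A) (g : N →ₗ[A] N') {x : N} (hx : x ∈ (J • ⊤ : Submodule A N)) : g x ∈ (J • ⊤ : Submodule A N') :=
  Submodule.smul_top_le_comap_smul_top J g hx

/-- The kernel of the differential in the completion. -/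
theorem d_mem_iff [IsNoetherianRing A] (M : ModuleCat.{u} A) [Module.Finite A M] : ∀ (fs : List A)
    (w : (extCech M fs).X 0),
    (∀ n : ℕ, (extCech M fs).d 0 1 w ∈ (I ^ n • ⊤ : Submodule A ((extCech M fs).X 1))) ↔ Cond I fs w
  | [], w => by
    refine iff_of_true (fun n => ?_) (fun f hf => by simp at hf)
    haveI : Subsingleton ((extCech M ([] : List A)).X 1) :=
      ModuleCat.subsingleton_of_isZero (ExtCechLib.isZero_extCech_X M [] 1 (Or.inr (by simp)))
    rw [Subsingleton.elim ((extCech M []).d 0 1 w) 0]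
    exact zero_mem _
  | f :: fs, w => by
    let φ := locCxUnit (Submonoid.powers f) (extCech M fs)
    have hsub := subsingleton_loc_extCech_neg M fs (Submonoid.powers f)
    haveI := finite_extCech_zero M fs
    let p := ((mappingCocone.fst φ).f 0).hom
    have hp : Function.Injective p := (cocone_fst_f_bijective φ hsub).1
    have h1 : (mappingCocone.fst φ).f 1 ((mappingCocone φ).d 0 1 w) = (extCech M fs).d 0 1 (p w) :=
      (ConcreteCategory.congr_hom ((mappingCocone.fst φ).comm 0 1) w).symm
    have h2 := cocone_d_snd φ hsub w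
    rw [cond_cons, ← cond_iff_of_injective I hp, ← d_mem_iff M fs (p w)]
    have hk : (∃ k : ℕ, ∃ i ∈ I, (f ^ k + i) • w = 0) ↔ ∃ k : ℕ, ∃ i ∈ I, (f ^ k + i) • p w = 0 :=
      exists_congr fun k => exists_congr fun i => and_congr_right fun _ => by
        rw [← map_smul, map_eq_zero_iff p hp]
    rw [hk, ← mem_iInf_loc_iff I f ((extCech M fs).X 0) (p w)]
    refine ⟨fun h => ⟨fun n => ?_, fun n => ?_⟩, fun h n => ?_⟩
    · have := map_mem_smul_top (I ^ n) ((mappingCocone.snd φ).v 1 0 (by omega)).hom (h n)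
      exact neg_mem_iff.1 (h2 ▸ this)
    · exact h1 ▸ map_mem_smul_top (I ^ n) ((mappingCocone.fst φ).f 1).hom (h n)
    · have e : (mappingCocone.inl φ).v 1 1 (add_zero 1) ((mappingCocone.fst φ).f 1 ((mappingCocone φ).d 0 1 w)) +
          (mappingCocone.inr φ).1.v 0 1 (by omega)
            ((mappingCocone.snd φ).v 1 0 (by omega) ((mappingCocone φ).d 0 1 w)) = (mappingCocone φ).d 0 1 w :=
        congr($(mappingCocone.id_X φ 1 0 (by omega)).hom ((mappingCocone φ).d 0 1 w))
      show (mappingCocone φ).d 0 1 w ∈ _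
      rw [← e, h1, h2]
      exact add_mem (map_mem_smul_top (I ^ n) ((mappingCocone.inl φ).v 1 1 (add_zero 1)).hom (h.2 n))
        (map_mem_smul_top (I ^ n) ((mappingCocone.inr φ).1.v 0 1 (by omega)).hom
          (neg_mem (s := (I ^ n • ⊤ : Submodule A (((locCx (Submonoid.powers f)).obj (extCech M fs)).X 0))) (h.1 n)))

theorem cls_injective (K : DRing.Cx A) (h : Subsingleton (K.X (-1))) : Function.Injective (cls K 0) := by
  refine (injective_iff_map_eq_zero _).2 fun z hz => ?_
  obtain ⟨w, hw⟩ := (cls_eq_zero_iff K 0 z).1 hz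
  haveI : Subsingleton (K.X ((ComplexShape.up ℤ).prev 0)) := by
    rw [CochainComplex.prev]
    exact h
  refine Subtype.ext ?_
  rw [← hw, Subsingleton.elim w 0, map_zero]
  rfl

variable [IsNoetherianRing A] [IsAdicComplete I A] (M : ModuleCat.{u} A) [Module.Finite A M]

/-- The completed augmentation in degree zero cohomology. -/
theorem homology_adic_aug (fs : List A) :
    Function.Injective (HomologicalComplex.homologyMap ((adicCx I).map (aug M fs)) 0).hom ∧
      Set.range (HomologicalComplex.homologyMap ((adicCx I).map (aug M fs)) 0).hom = {y | Cond I fs y} := by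
  let K := (adicCx I).obj (extCech M fs)
  let Sg := (HomologicalComplex.single (ModuleCat.{u} A) (ComplexShape.up ℤ) 0).obj M
  let L := (adicCx I).obj Sg
  let φ : K ⟶ L := (adicCx I).map (aug M fs)
  have hK : Subsingleton (K.X (-1)) := ModuleCat.subsingleton_of_isZero
    ((adicF I).map_isZero (ExtCechLib.isZero_extCech_X M fs (-1) (Or.inl (by omega))))
  have hL : ∀ q, q ≠ 0 → IsZero (L.X q) := fun q hq =>
    (adicF I).map_isZero (HomologicalComplex.isZero_single_obj_X _ _ _ _ hq)
  haveI : IsIso ((aug M fs).f 0) := (ConcreteCategory.isIso_iff_bijective _).2 (bijective_aug_f M fs)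
  have hφ : Function.Bijective (φ.f 0) :=
    (ConcreteCategory.isIso_iff_bijective _).1 (inferInstanceAs (IsIso ((adicF I).map ((aug M fs).f 0))))
  haveI := finite_extCech_zero M fs
  haveI : IsAdicComplete I ((extCech M fs).X 0) := FiniteCompleteLib.isAdicComplete_of_finite I _
  have hof := AdicCompletion.of_bijective_iff.2 (inferInstance : IsAdicComplete I ((extCech M fs).X 0))
  have hker : ∀ x : K.X 0, x ∈ Zmod K 0 ↔ Cond I fs x := fun x => by
    obtain ⟨w, rfl⟩ := hof.2 x
    refine Iff.trans ?_ ((cond_iff_of_injective I hof.1 w).symm)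
    rw [← d_mem_iff I M fs w]
    show K.d 0 ((ComplexShape.up ℤ).next 0) _ = 0 ↔ _
    rw [CochainComplex.next]
    show AdicCompletion.map I ((extCech M fs).d 0 1).hom (AdicCompletion.of I _ w) = 0 ↔ _
    rw [AdicCompletion.map_of]
    refine ⟨fun h n => ?_, fun h => Subtype.ext (funext fun n => (Submodule.Quotient.mk_eq_zero _).2 (h n))⟩
    exact (Submodule.Quotient.mk_eq_zero _).1 (congrFun (congrArg Subtype.val h) n)
  have hcK := cls_injective K hK
  have hcL := cls_injective L (ModuleCat.subsingleton_of_isZero (hL (-1) (by omega)))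
  have hZ : ∀ y : L.X 0, y ∈ Zmod L 0 := fun y => by
    haveI := ModuleCat.subsingleton_of_isZero (hL ((ComplexShape.up ℤ).next 0) (by simp))
    exact LinearMap.mem_ker.2 (Subsingleton.elim _ _)
  have hco : ∀ z : Zmod L 0, Cond I fs (cls L 0 z) ↔ Cond I fs (z : L.X 0) := fun z =>
    (cond_iff_of_injective I hcL z).trans (cond_iff_of_injective I (Zmod L 0).injective_subtype z).symm
  refine ⟨fun a b hab => ?_, Set.ext fun y => ⟨?_, fun hy => ?_⟩⟩
  · obtain ⟨a, rfl⟩ := cls_surjective K 0 a
    obtain ⟨b, rfl⟩ := cls_surjective K 0 b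
    rw [homologyMap_cls, homologyMap_cls] at hab
    exact congrArg _ (Subtype.ext (hφ.1 (congrArg Subtype.val (hcL hab))))
  · rintro ⟨c, rfl⟩
    obtain ⟨z, rfl⟩ := cls_surjective K 0 c
    show Cond I fs ((HomologicalComplex.homologyMap φ 0).hom (cls K 0 z))
    rw [homologyMap_cls, hco, mapZ_coe, cond_iff_of_injective I (e := (φ.f 0).hom) hφ.1]
    exact (hker _).1 z.2
  · obtain ⟨z, rfl⟩ := cls_surjective L 0 y
    obtain ⟨x, hx⟩ := hφ.2 (z : L.X 0)
    have hc : Cond I fs (φ.f 0 x) := by rw [hx]; exact (hco z).1 hy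
    exact ⟨cls K 0 ⟨x, (hker x).2 ((cond_iff_of_injective I (e := (φ.f 0).hom) hφ.1 x).1 hc)⟩,
      (homologyMap_cls 0 φ _).trans (congrArg _ (Subtype.ext hx))⟩

theorem isIso_adicηCx_single : IsIso (adicηCx I ((HomologicalComplex.single (ModuleCat.{u} A) (ComplexShape.up ℤ) 0).obj M)) := by
  haveI : ∀ i, IsIso ((adicηCx I ((HomologicalComplex.single (ModuleCat.{u} A) (ComplexShape.up ℤ) 0).obj M)).f i) :=
    fun i => by
      by_cases hi : i = 0
      · subst hi
        haveI : Module.Finite A (((HomologicalComplex.single (ModuleCat.{u} A) (ComplexShape.up ℤ) 0).obj M).X 0) :=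
          Module.Finite.equiv (HomologicalComplex.singleObjXSelf (ComplexShape.up ℤ) 0 M).toLinearEquiv.symm
        exact (ConcreteCategory.isIso_iff_bijective _).2
          (AdicCompletion.of_bijective_iff.2 (FiniteCompleteLib.isAdicComplete_of_finite I _))
      · exact isIso_of_source_target_iso_zero _ (HomologicalComplex.isZero_single_obj_X _ _ _ _ hi).isoZero
          ((adicF I).map_isZero (HomologicalComplex.isZero_single_obj_X _ _ _ _ hi)).isoZero
  exact HomologicalComplex.Hom.isIso_of_components _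

omit [IsAdicComplete I A] [Module.Finite A M] in
theorem mem_union_iff {J : Ideal A} {fs : List A} (hfs : Ideal.ofList fs = J) (s : M) :
    (∃ J' : Ideal A, J' ≤ J ∧ J ≤ (J' ⊔ I).radical ∧ s ∈ DRing.torsionSub J' M) ↔ Cond I fs s := by
  constructor
  · rintro ⟨J', -, hJ', n, hn⟩ f hf
    obtain ⟨a, ha⟩ := hJ' (hfs ▸ Ideal.subset_span hf : f ∈ J)
    have h : f ^ (a * n) ∈ J' ^ n ⊔ I := by
      obtain ⟨j, hj, i, hi, e⟩ := Submodule.mem_sup.1 ha
      rw [pow_mul, ← e]
      have h0 : (j + i) ^ n - j ^ n ∈ I := by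
        rw [← Ideal.Quotient.eq, map_pow, map_pow, map_add, Ideal.Quotient.eq_zero_iff_mem.2 hi, add_zero]
      exact Submodule.mem_sup.2 ⟨j ^ n, Ideal.pow_mem_pow hj n, _, h0, add_sub_cancel _ _⟩
    obtain ⟨j, hj, i, hi, e⟩ := Submodule.mem_sup.1 h
    exact ⟨a * n, -i, neg_mem hi, by rw [← e, add_neg_cancel_right]; exact hn j hj⟩
  · intro hs
    refine ⟨J ⊓ Submodule.colon (⊥ : Submodule A M) {s}, inf_le_left, ?_, 1, fun a ha => ?_⟩
    · rw [← hfs, Ideal.ofList, Ideal.span_le]
      intro f hf
      obtain ⟨k, i, hi, e⟩ := hs f hf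
      refine ⟨k + 1, ?_⟩
      rw [show f ^ (k + 1) = f * (f ^ k + i) + -(f * i) by ring]
      refine Submodule.add_mem_sup ⟨?_, ?_⟩ (neg_mem (Ideal.mul_mem_left _ _ hi))
      · exact Ideal.mul_mem_right _ _ (Ideal.subset_span hf)
      · exact Submodule.mem_colon_singleton.2 ((Submodule.mem_bot A).2 (by rw [mul_smul, e, smul_zero]))
    · rw [pow_one] at ha
      exact (Submodule.mem_bot A).1 (Submodule.mem_colon_singleton.1 ha.2)

variable (J : Ideal A) [DRing.HasRgammaI J] [DRing.HasDerivedCompletion I]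

/-- The degree zero cohomology of the completion of `RΓ_J M`. -/
theorem H0_derivedCompletion :
    Function.Injective ((DerivedCategory.homologyFunctor (ModuleCat.{u} A) 0).map
      ((ObjectProperty.ι (DRing.IsDerivedComplete I)).map ((DRing.derivedCompletion I).map
        ((DRing.RgammaIε J).app ((DerivedCategory.singleFunctor (ModuleCat.{u} A) 0).obj M))))).hom ∧
    Set.range ((DerivedCategory.homologyFunctor (ModuleCat.{u} A) 0).map
      ((ObjectProperty.ι (DRing.IsDerivedComplete I)).map ((DRing.derivedCompletion I).map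
        ((DRing.RgammaIε J).app ((DerivedCategory.singleFunctor (ModuleCat.{u} A) 0).obj M))))).hom =
      (fun s : M => ((DerivedCategory.homologyFunctor (ModuleCat.{u} A) 0).map
        (DRing.toDerivedCompletion I ((DerivedCategory.singleFunctor (ModuleCat.{u} A) 0).obj M))).hom
          (((DerivedCategory.singleFunctorCompHomologyFunctorIso (ModuleCat.{u} A) 0).inv.app M).hom s)) ''
        {s : M | ∃ J' : Ideal A, J' ≤ J ∧ J ≤ (J' ⊔ I).radical ∧ s ∈ DRing.torsionSub J' M} := by
  obtain ⟨fs, hfs⟩ := exists_ofList (J.fg_of_isNoetherianRing)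
  let H := DerivedCategory.homologyFunctor (ModuleCat.{u} A) (0 : ℤ)
  let K0 := (DerivedCategory.singleFunctor (ModuleCat.{u} A) 0).obj M
  let Sg := (HomologicalComplex.single (ModuleCat.{u} A) (ComplexShape.up ℤ) 0).obj M
  let cm := (ObjectProperty.ι (DRing.IsDerivedComplete I)).map ((DRing.derivedCompletion I).map
    ((DRing.RgammaIε J).app K0))
  obtain ⟨θ, hθ⟩ := exists_iso_RgammaI_extCech J M hfs
  have hC := (isCompl_adic_extCech M I fs).of_iso θ.symm
  obtain ⟨e, he⟩ := hC.exists_iso (isCompl_toDerivedCompletion (I := I) ((DRing.RgammaI J).obj K0))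
  obtain ⟨e', he'⟩ := (isCompl_adic_extCech M I []).exists_iso (isCompl_toDerivedCompletion (I := I) K0)
  have hnat : DRing.toDerivedCompletion I ((DRing.RgammaI J).obj K0) ≫ cm =
      (DRing.RgammaIε J).app K0 ≫ DRing.toDerivedCompletion I K0 :=
    ((DRing.derivedCompletionAdj I).unit.naturality ((DRing.RgammaIε J).app K0)).symm
  have hsq : e.hom ≫ cm = DerivedCategory.Q.map ((adicCx I).map (aug M fs)) ≫ e'.hom := by
    refine (isCompl_adic_extCech M I fs).hom_ext
      (isCompl_toDerivedCompletion (I := I) K0).mem ?_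
    have h1 : DerivedCategory.Q.map (adicηCx I (extCech M fs)) ≫ e.hom =
        θ.hom ≫ DRing.toDerivedCompletion I ((DRing.RgammaI J).obj K0) := by
      rw [← he]
      simp
    rw [reassoc_of% h1, hnat, reassoc_of% hθ, ← he', ← Category.assoc, ← Category.assoc,
      ← Functor.map_comp, ← Functor.map_comp]
    exact congrArg (fun k => DerivedCategory.Q.map k ≫ e'.hom) (adicηCx_naturality I (aug M fs))
  have hm : H.map cm = H.map e.inv ≫
      H.map (DerivedCategory.Q.map ((adicCx I).map (aug M fs))) ≫ H.map e'.hom := by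
    rw [← H.map_comp, ← H.map_comp, ← hsq, Iso.inv_hom_id_assoc]
  obtain ⟨hinj, hrange⟩ := homology_adic_aug I M fs
  let q₁ := (hQIso ((adicCx I).obj (extCech M fs)) 0).toLinearEquiv
  let q₂ := (hQIso ((adicCx I).obj Sg) 0).toLinearEquiv
  let b₁ := (H.mapIso e).toLinearEquiv
  let b₂ := (H.mapIso e').toLinearEquiv
  let g := (HomologicalComplex.homologyMap ((adicCx I).map (aug M fs)) 0).hom
  have hfun : ∀ x, (H.map cm).hom x = b₂ (q₂.symm (g (q₁ (b₁.symm x)))) := fun x => by
    rw [hm]
    show b₂ (hM ((adicCx I).map (aug M fs)) 0 (b₁.symm x)) = _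
    exact congrArg b₂ (q₂.eq_symm_apply.2 (hM_eq ((adicCx I).map (aug M fs)) 0 (b₁.symm x)))
  haveI := isIso_adicηCx_single I M
  haveI : IsIso (DRing.toDerivedCompletion I K0) :=
    he' ▸ (inferInstanceAs (IsIso (DerivedCategory.Q.map (adicηCx I Sg) ≫ e'.hom)))
  let κ : M ≃ₗ[A] _ :=
    ((DerivedCategory.singleFunctorCompHomologyFunctorIso (ModuleCat.{u} A) 0).symm.app M ≪≫
      asIso (H.map (DRing.toDerivedCompletion I K0))).toLinearEquiv
  refine ⟨fun x y hxy => ?_, Set.ext fun z => ?_⟩
  · have hxy' : (H.map cm).hom x = (H.map cm).hom y := hxy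
    rw [hfun, hfun] at hxy'
    exact b₁.symm.injective (q₁.injective (hinj (q₂.symm.injective (b₂.injective hxy'))))
  · have hz : z ∈ Set.range (H.map cm).hom ↔ Cond I fs z := by
      obtain ⟨y, rfl⟩ := (q₂.symm.trans b₂).surjective z
      refine Iff.trans ?_ ((Set.ext_iff.1 hrange y).trans
        (cond_iff_of_injective I (e := (q₂.symm.trans b₂).toLinearMap) (q₂.symm.trans b₂).injective y).symm)
      constructor
      · rintro ⟨x, hx⟩
        rw [hfun] at hx
        exact ⟨q₁ (b₁.symm x), (q₂.symm.trans b₂).injective hx⟩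
      · rintro ⟨c, rfl⟩
        exact ⟨b₁ (q₁.symm c), by rw [hfun, LinearEquiv.symm_apply_apply, LinearEquiv.apply_symm_apply]; rfl⟩
    refine hz.trans ?_
    obtain ⟨s, rfl⟩ := κ.surjective z
    exact (cond_iff_of_injective I (e := κ.toLinearMap) κ.injective s).trans ((mem_union_iff I M hfs s).symm.trans
      ⟨fun h => ⟨s, h, rfl⟩, fun ⟨s', h, e⟩ => (κ.injective (a₁ := s') (a₂ := s) e) ▸ h⟩)

end Groth.Agent.CechComplLib
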