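import Groth.Agent.KoszulCech.StableH
import Groth.Agent.ExtCechLib.Basic

/-!
# Reduction of the extended Čech complex modulo an ideal
-/

set_option autoImplicit false
set_option linter.style.haveILetI false
set_option backward.isDefEq.respectTransparency false

universe u

open CategoryTheory Limits CochainComplex DerCA

noncomputable section

namespace Groth.Agent.CechComplLib

variable {A : Type u} [CommRing A] (J : Ideal A)

/-- Reduction modulo an ideal. -/
def quotF : ModuleCat.{u} A ⥤ ModuleCat.{u} A where
  obj N := ModuleCat.of A (N ⧸ (J • ⊤ : Submodule A N))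
  map {N N'} f := ModuleCat.ofHom (Submodule.mapQ (J • ⊤ : Submodule A N) (J • ⊤ : Submodule A N') f.hom
    (Submodule.smul_top_le_comap_smul_top J f.hom))
  map_id N := by
    refine ModuleCat.hom_ext (Submodule.linearMap_qext _ (LinearMap.ext fun x => rfl))
  map_comp f g := by
    refine ModuleCat.hom_ext (Submodule.linearMap_qext _ (LinearMap.ext fun x => rfl))

instance additive_quotF : (quotF J).Additive where
  map_add {N N' f g} := ModuleCat.hom_ext (Submodule.linearMap_qext _ (LinearMap.ext fun x => rfl))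

instance linear_quotF : (quotF J).Linear A where
  map_smul {N N'} f a := ModuleCat.hom_ext (Submodule.linearMap_qext _ (LinearMap.ext fun x => rfl))

/-- The projection onto the reduction. -/
def quotπ : 𝟭 (ModuleCat.{u} A) ⟶ quotF J where
  app N := ModuleCat.ofHom (J • ⊤ : Submodule A N).mkQ
  naturality _ _ _ := rfl

theorem exists_smul_mem (T : Submonoid A) {N : ModuleCat.{u} A} {z : LocalizedModule T N}
    (hz : z ∈ (J • ⊤ : Submodule A (LocalizedModule T N))) :
    ∃ (t : T) (w : N), w ∈ (J • ⊤ : Submodule A N) ∧ t • z = LocalizedModule.mkLinearMap T N w := by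
  refine Submodule.smul_induction_on hz (fun a ha y _ => ?_) fun y y' hy hy' => ?_
  · obtain ⟨⟨w, t⟩, hw⟩ := IsLocalizedModule.surj T (LocalizedModule.mkLinearMap T N) y
    refine ⟨t, a • w, Submodule.smul_mem_smul ha Submodule.mem_top, ?_⟩
    rw [map_smul, ← hw, smul_comm]
  · obtain ⟨t, w, hw, e⟩ := hy
    obtain ⟨t', w', hw', e'⟩ := hy'
    refine ⟨t * t', (t' : A) • w + (t : A) • w', add_mem (Submodule.smul_mem _ _ hw) (Submodule.smul_mem _ _ hw'), ?_⟩
    rw [map_add, map_smul, map_smul, ← e, ← e', Submonoid.smul_def, Submonoid.smul_def, Submonoid.smul_def,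
      Submonoid.coe_mul, smul_smul, smul_smul, mul_comm (t' : A), smul_add]

/-- Reduction commutes with localisation. -/
theorem isLocalizedModule_quot (T : Submonoid A) (N : ModuleCat.{u} A) :
    IsLocalizedModule T ((quotF J).map ((locUnit T).app N)).hom := by
  let u : N →ₗ[A] LocalizedModule T N := LocalizedModule.mkLinearMap T N
  refine ⟨fun t => ?_, fun y => ?_, fun {x y} h => ?_⟩
  · obtain ⟨e, he⟩ := IsLocalizedModule.map_units u t
    refine isUnit_iff_exists.2 ⟨((quotF J).map (ModuleCat.ofHom (((e⁻¹ : _ˣ) : Module.End A (LocalizedModule T N))))).hom,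
      ?_, ?_⟩
    · refine Submodule.linearMap_qext _ (LinearMap.ext fun z => ?_)
      have hz := LinearMap.congr_fun e.mul_inv z
      rw [Module.End.mul_apply, he] at hz
      exact congrArg (Submodule.Quotient.mk (p := (J • ⊤ : Submodule A (LocalizedModule T N)))) hz
    · refine Submodule.linearMap_qext _ (LinearMap.ext fun z => ?_)
      have hz := LinearMap.congr_fun e.inv_mul z
      rw [Module.End.mul_apply, he] at hz
      exact congrArg (Submodule.Quotient.mk (p := (J • ⊤ : Submodule A (LocalizedModule T N)))) hz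
  · obtain ⟨z, rfl⟩ := Submodule.Quotient.mk_surjective _ y
    obtain ⟨⟨w, t⟩, hw⟩ := IsLocalizedModule.surj T u z
    exact ⟨⟨Submodule.Quotient.mk w, t⟩,
      congrArg (Submodule.Quotient.mk (p := (J • ⊤ : Submodule A (LocalizedModule T N)))) hw⟩
  · obtain ⟨x, rfl⟩ := Submodule.Quotient.mk_surjective _ x
    obtain ⟨y, rfl⟩ := Submodule.Quotient.mk_surjective _ y
    have h' : u x - u y ∈ (J • ⊤ : Submodule A (LocalizedModule T N)) := (Submodule.Quotient.eq _).1 h
    obtain ⟨t, w, hw, e⟩ := exists_smul_mem J T h'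
    have e' : u ((t : A) • (x - y)) = u w := by rw [map_smul, map_sub]; exact e
    obtain ⟨t', ht'⟩ := IsLocalizedModule.exists_of_eq (S := T) (f := u) e'
    refine ⟨t' * t, ?_⟩
    rw [Submonoid.smul_def, Submonoid.coe_mul]
    refine (Submodule.Quotient.eq _).2 ?_
    show ((t' : A) * t) • x - ((t' : A) * t) • y ∈ _
    rw [← smul_sub, mul_smul]
    have := Submodule.smul_mem (J • ⊤ : Submodule A N) (t' : A) hw
    rw [show (t' : A) • (t : A) • (x - y) = (t' : A) • w from ht']
    exact this

/-- Localisation of the reduction. -/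
def locQuotApp (T : Submonoid A) (N : ModuleCat.{u} A) :
    (locFunctor T).obj ((quotF J).obj N) ≅ (quotF J).obj ((locFunctor T).obj N) :=
  haveI := isLocalizedModule_quot J T N
  (IsLocalizedModule.iso T ((quotF J).map ((locUnit T).app N)).hom).toModuleIso

theorem locUnit_locQuotApp (T : Submonoid A) (N : ModuleCat.{u} A) :
    (locUnit T).app ((quotF J).obj N) ≫ (locQuotApp J T N).hom = (quotF J).map ((locUnit T).app N) := by
  haveI := isLocalizedModule_quot J T N
  refine ModuleCat.hom_ext (LinearMap.ext fun x => ?_)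
  exact IsLocalizedModule.iso_mk_one T ((quotF J).map ((locUnit T).app N)).hom x

theorem locQuotApp_naturality (T : Submonoid A) {N N' : ModuleCat.{u} A} (g : N ⟶ N') :
    (locFunctor T).map ((quotF J).map g) ≫ (locQuotApp J T N').hom =
      (locQuotApp J T N).hom ≫ (quotF J).map ((locFunctor T).map g) := by
  haveI := isLocalizedModule_quot J T N'
  refine ModuleCat.hom_ext (IsLocalizedModule.ext T (LocalizedModule.mkLinearMap T ((quotF J).obj N))
    (fun t => IsLocalizedModule.map_units ((quotF J).map ((locUnit T).app N')).hom t) ?_)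
  have h : (locUnit T).app ((quotF J).obj N) ≫ (locFunctor T).map ((quotF J).map g) ≫ (locQuotApp J T N').hom =
      (locUnit T).app ((quotF J).obj N) ≫ (locQuotApp J T N).hom ≫ (quotF J).map ((locFunctor T).map g) := by
    rw [← Category.assoc, ← (locUnit T).naturality, Category.assoc, locUnit_locQuotApp, ← Category.assoc,
      locUnit_locQuotApp, ← Functor.map_comp, ← (locUnit T).naturality, Functor.map_comp]
    rfl
  exact congrArg (fun k => k.hom) h

/-- Termwise reduction. -/
abbrev quotCx : DRing.Cx A ⥤ DRing.Cx A := (quotF J).mapHomologicalComplex (ComplexShape.up ℤ)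

/-- Localisation of the termwise reduction. -/
def locQuotCx (T : Submonoid A) (K : DRing.Cx A) :
    (locCx T).obj ((quotCx J).obj K) ≅ (quotCx J).obj ((locCx T).obj K) :=
  HomologicalComplex.Hom.isoOfComponents (fun i => locQuotApp J T (K.X i))
    fun i j _ => (locQuotApp_naturality J T (K.d i j)).symm

theorem locCxUnit_locQuotCx (T : Submonoid A) (K : DRing.Cx A) :
    locCxUnit T ((quotCx J).obj K) ≫ (locQuotCx J T K).hom = (quotCx J).map (locCxUnit T K) := by
  ext i : 1
  exact locUnit_locQuotApp J T (K.X i)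

/-- Reduction commutes with the extended Čech complex. -/
theorem nonempty_quot_extCech (M : ModuleCat.{u} A) : ∀ fs : List A,
    Nonempty ((quotCx J).obj (extCech M fs) ≅ extCech ((quotF J).obj M) fs)
  | [] => ⟨(HomologicalComplex.singleMapHomologicalComplex (quotF J) (ComplexShape.up ℤ) 0).app M⟩
  | f :: fs => by
    obtain ⟨p⟩ := nonempty_quot_extCech M fs
    let T := Submonoid.powers f
    let q : (quotCx J).obj ((locCx T).obj (extCech M fs)) ≅ (locCx T).obj (extCech ((quotF J).obj M) fs) :=
      (locQuotCx J T _).symm ≪≫ (locCx T).mapIso p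
    have comm : (quotCx J).map (locCxUnit T (extCech M fs)) ≫ q.hom =
        p.hom ≫ locCxUnit T (extCech ((quotF J).obj M) fs) := by
      rw [← locCxUnit_locQuotCx]
      show (_ ≫ _) ≫ (locQuotCx J T _).inv ≫ (locCx T).map p.hom = _
      rw [Category.assoc, Iso.hom_inv_id_assoc]
      exact KoszulCech.locCxUnit_naturality T p.hom
    exact ⟨((quotCx J).commShiftIso (-1 : ℤ)).app _ ≪≫ (CategoryTheory.shiftFunctor (DRing.Cx A) (-1 : ℤ)).mapIso
      (CochainComplex.mappingCone.mapHomologicalComplexIso (locCxUnit T (extCech M fs)) (quotF J) ≪≫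
        KoszulCech.coneIso p q comm)⟩

theorem exists_pow_smul_eq_zero_quot (M : ModuleCat.{u} A) (fs : List A) (q : ℤ)
    (x : ((quotCx J).obj (extCech M fs)).homology q) :
    ∃ N : ℕ, 0 < N + 1 ∧ ∀ g ∈ fs, g ^ N • x = 0 := by
  obtain ⟨p⟩ := nonempty_quot_extCech J M fs
  let e := ((HomologicalComplex.homologyFunctor _ _ q).mapIso p).toLinearEquiv
  obtain ⟨N, -, hN⟩ := ExtCechLib.exists_pow_smul_eq_zero ((quotF J).obj M) fs q (e x)
  exact ⟨N, Nat.succ_pos N, fun g hg => e.injective (by rw [map_smul, map_zero]; exact hN g hg)⟩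

end Groth.Agent.CechComplLib
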