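import Groth.Agent.CechComplLib.Adic
import Groth.Agent.CechComplLib.Quot
import Groth.Agent.RFRlimLib.Products
import Groth.Prelude.Def_DCoh2
import Mathlib.Algebra.Category.ModuleCat.AB

/-!
# Termwise completion as a derived limit
-/

set_option autoImplicit false
set_option linter.style.haveILetI false
set_option backward.isDefEq.respectTransparency false

universe u

open CategoryTheory Limits Pretriangulated
attribute [local instance] HasDerivedCategory.standard

noncomputable section

namespace Groth.Agent.CechComplLib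

variable {A : Type u} [CommRing A]

/-- The product of a sequence of complexes of modules. -/
def piCx (K : ℕ → DRing.Cx A) : DRing.Cx A where
  X i := ModuleCat.of A (∀ n, (K n).X i)
  d i j := ModuleCat.ofHom (LinearMap.pi fun n => ((K n).d i j).hom ∘ₗ LinearMap.proj n)
  shape i j h := ModuleCat.hom_ext (LinearMap.ext fun x => funext fun n =>
    congr($((K n).shape i j h).hom (x n)))
  d_comp_d' i j k _ _ := ModuleCat.hom_ext (LinearMap.ext fun x => funext fun n =>
    congr($((K n).d_comp_d i j k).hom (x n)))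

/-- The projections of the product. -/
def piπ (K : ℕ → DRing.Cx A) (n : ℕ) : piCx K ⟶ K n where
  f i := ModuleCat.ofHom (LinearMap.proj n)
  comm' _ _ _ := rfl

/-- Lift to the product. -/
def piLiftCx {K : ℕ → DRing.Cx A} {W : DRing.Cx A} (g : ∀ n, W ⟶ K n) : W ⟶ piCx K where
  f i := ModuleCat.ofHom (LinearMap.pi fun n => ((g n).f i).hom)
  comm' i j _ := ModuleCat.hom_ext (LinearMap.ext fun x => funext fun n =>
    congr($((g n).comm i j).hom x))

theorem piLiftCx_π {K : ℕ → DRing.Cx A} {W : DRing.Cx A} (g : ∀ n, W ⟶ K n) (n : ℕ) :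
    piLiftCx g ≫ piπ K n = g n := by
  ext i : 1
  rfl

/-- The product is a limit. -/
def isLimitPi (K : ℕ → DRing.Cx A) : IsLimit (Fan.mk (piCx K) (piπ K)) :=
  Fan.IsLimit.mk _ (fun s => piLiftCx s.proj) (fun s n => piLiftCx_π s.proj n) fun s m hm => by
    ext i : 1
    exact ModuleCat.hom_ext (LinearMap.ext fun x => funext fun n =>
      congr($(HomologicalComplex.congr_hom (hm n) i).hom x))

/-- The product of complexes is a product in the derived category. -/
theorem nonempty_isLimit_Q (K : ℕ → DRing.Cx A) :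
    Nonempty (IsLimit (Fan.mk (DRing.toD (piCx K)) fun n => DerivedCategory.Q.map (piπ K n))) := by
  let q := HomotopyCategory.quotient (ModuleCat.{u} A) (ComplexShape.up ℤ)
  haveI := RFRlimLib.preservesLimit_Qh (B := ModuleCat.{u} A) fun n => q.obj (K n)
  let h := isLimitFanMkObjOfIsLimit DerivedCategory.Qh _ _ (RFRlimLib.isLimit_quotient (isLimitPi K))
  let e := DerivedCategory.quotientCompQhIso (ModuleCat.{u} A)
  refine ⟨Fan.IsLimit.mk _ (fun s => Fan.IsLimit.lift h (fun n => s.proj n ≫ e.inv.app (K n)) ≫ e.hom.app (piCx K))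
    (fun s n => ?_) fun s m hm => ?_⟩
  · show (_ ≫ e.hom.app _) ≫ DerivedCategory.Q.map (piπ K n) = _
    rw [Category.assoc, ← e.hom.naturality, ← Category.assoc]
    refine (congrArg (· ≫ e.hom.app (K n)) (Fan.IsLimit.fac h _ n)).trans ?_
    exact (Category.assoc _ _ _).trans ((congrArg (s.proj n ≫ ·) (e.inv_hom_id_app (K n))).trans
      (Category.comp_id _))
  · rw [← cancel_mono (e.inv.app (piCx K)), Category.assoc, Iso.hom_inv_id_app]
    refine Fan.IsLimit.hom_ext h _ _ fun n => ?_
    refine Eq.trans ?_ ((congrArg (· ≫ _) (Category.comp_id _)).trans (Fan.IsLimit.fac h _ n)).symm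
    show (m ≫ e.inv.app _) ≫ DerivedCategory.Qh.map (q.map (piπ K n)) = s.proj n ≫ e.inv.app (K n)
    rw [← hm n]
    show (m ≫ e.inv.app _) ≫ _ = (m ≫ DerivedCategory.Q.map (piπ K n)) ≫ _
    rw [Category.assoc, Category.assoc]
    exact congrArg (m ≫ ·) (e.inv.naturality (piπ K n)).symm

/-- Identity minus shift. -/
def shiftDiff {K : ℕ → DRing.Cx A} (t : ∀ n, K (n + 1) ⟶ K n) : piCx K ⟶ piCx K :=
  piLiftCx fun n => piπ K n - piπ K (n + 1) ≫ t n

/-- A short exact sequence `L → ∏ K → ∏ K` gives a derived limit. -/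
theorem isRlim_of_ses {K : ℕ → DRing.Cx A} (t : ∀ n, K (n + 1) ⟶ K n) {L : DRing.Cx A} (a : L ⟶ piCx K)
    (w : a ≫ shiftDiff t = 0) (hS : (ShortComplex.mk a (shiftDiff t) w).ShortExact) {X : ℕ → Dual.D A}
    [HasProduct X] (t' : ∀ n, X (n + 1) ⟶ X n) (θ : ∀ n, DRing.toD (K n) ≅ X n)
    (comm : ∀ n, DerivedCategory.Q.map (t n) ≫ (θ n).hom = (θ (n + 1)).hom ≫ t' n) {Y : Dual.D A}
    (e : DRing.toD L ≅ Y) : DCoh.IsRlim X t' Y := by
  obtain ⟨h⟩ := nonempty_isLimit_Q K
  let P : DRing.toD (piCx K) ≅ ∏ᶜ X :=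
    { hom := Pi.lift fun n => DerivedCategory.Q.map (piπ K n) ≫ (θ n).hom
      inv := Fan.IsLimit.lift h fun n => Pi.π X n ≫ (θ n).inv
      hom_inv_id := Fan.IsLimit.hom_ext h _ _ fun n => by
        rw [Category.assoc, Category.id_comp]
        refine (congrArg (_ ≫ ·) (Fan.IsLimit.fac h _ n)).trans ?_
        rw [limit.lift_π_assoc]
        exact (Category.assoc _ _ _).trans ((congrArg (_ ≫ ·) (θ n).hom_inv_id).trans (Category.comp_id _))
      inv_hom_id := Pi.hom_ext _ _ fun n => by
        rw [Category.assoc, limit.lift_π, Category.id_comp]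
        refine (Category.assoc _ _ _).symm.trans ((congrArg (· ≫ (θ n).hom) (Fan.IsLimit.fac h _ n)).trans ?_)
        exact (Category.assoc _ _ _).trans ((congrArg (_ ≫ ·) (θ n).inv_hom_id).trans (Category.comp_id _)) }
  have hQ : ∀ n, DerivedCategory.Q.map (shiftDiff t) ≫ DerivedCategory.Q.map (piπ K n) =
      DerivedCategory.Q.map (piπ K n) - DerivedCategory.Q.map (piπ K (n + 1)) ≫ DerivedCategory.Q.map (t n) := by
    intro n
    rw [← Functor.map_comp, shiftDiff, piLiftCx_π, Functor.map_sub, Functor.map_comp]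
  have hP : ∀ n, P.hom ≫ Pi.π X n = DerivedCategory.Q.map (piπ K n) ≫ (θ n).hom := fun n => limit.lift_π _ _
  refine ⟨e.inv ≫ DerivedCategory.Q.map a ≫ P.hom, P.inv ≫ DerivedCategory.triangleOfSESδ hS ≫ e.hom⟦(1 : ℤ)⟧',
    isomorphic_distinguished _ (DerivedCategory.triangleOfSES_distinguished hS) _
      (Triangle.isoMk _ _ e.symm P.symm P.symm ?_ ?_ ?_)⟩
  · show (e.inv ≫ DerivedCategory.Q.map a ≫ P.hom) ≫ P.inv = e.inv ≫ DerivedCategory.Q.map a
    simp
  · show Pi.lift _ ≫ P.inv = P.inv ≫ DerivedCategory.Q.map (shiftDiff t)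
    rw [Iso.comp_inv_eq, Category.assoc, Iso.eq_inv_comp]
    refine Pi.hom_ext _ _ fun n => ?_
    rw [Category.assoc, limit.lift_π, Category.assoc, hP, reassoc_of% (hQ n)]
    simp only [Fan.mk_π_app, Preadditive.comp_sub, Preadditive.sub_comp, Category.assoc, comm]
    rw [hP, reassoc_of% (hP (n + 1))]
  · show (P.inv ≫ DerivedCategory.triangleOfSESδ hS ≫ e.hom⟦(1 : ℤ)⟧') ≫ e.inv⟦(1 : ℤ)⟧' =
      P.inv ≫ DerivedCategory.triangleOfSESδ hS
    rw [Category.assoc, Category.assoc, ← Functor.map_comp, Iso.hom_inv_id, CategoryTheory.Functor.map_id]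
    exact congrArg (P.inv ≫ ·) (Category.comp_id _)

variable (I : Ideal A)

/-- The transition maps. -/
def quotTrans (n : ℕ) : quotF (I ^ (n + 1)) ⟶ quotF (I ^ n) where
  app N := ModuleCat.ofHom (Submodule.mapQ (I ^ (n + 1) • ⊤ : Submodule A N) (I ^ n • ⊤ : Submodule A N) LinearMap.id
    (Submodule.smul_mono (Ideal.pow_le_pow_right (Nat.le_succ n)) le_rfl))
  naturality N N' f := ModuleCat.hom_ext (Submodule.linearMap_qext _ (LinearMap.ext fun x => rfl))

/-- The transition maps, termwise. -/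
def quotTransCx (K : DRing.Cx A) (n : ℕ) : (quotCx (I ^ (n + 1))).obj K ⟶ (quotCx (I ^ n)).obj K :=
  (NatTrans.mapHomologicalComplex (quotTrans I n) (ComplexShape.up ℤ)).app K

/-- Evaluation of the completion. -/
def adicEval (n : ℕ) : adicF I ⟶ quotF (I ^ n) where
  app N := ModuleCat.ofHom (AdicCompletion.eval I N n)
  naturality N N' f := ModuleCat.hom_ext (LinearMap.ext fun x => AdicCompletion.map_val_apply I f.hom x)

/-- The termwise completion maps to the product of the reductions. -/
def adicToPi (K : DRing.Cx A) : (adicCx I).obj K ⟶ piCx fun n => (quotCx (I ^ n)).obj K :=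
  piLiftCx fun n => (NatTrans.mapHomologicalComplex (adicEval I n) (ComplexShape.up ℤ)).app K

theorem transitionMap_val {N : Type u} [AddCommGroup N] [Module A N] (x : AdicCompletion I N) (n : ℕ) :
    Submodule.mapQ (I ^ (n + 1) • ⊤ : Submodule A N) (I ^ n • ⊤ : Submodule A N) LinearMap.id
      (Submodule.smul_mono (Ideal.pow_le_pow_right (Nat.le_succ n)) le_rfl) (x.val (n + 1)) = x.val n :=
  x.property (Nat.le_succ n)

theorem exact_adicToPi (K : DRing.Cx A) :
    ∃ w : adicToPi I K ≫ shiftDiff (quotTransCx I K) = 0,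
      (ShortComplex.mk (adicToPi I K) (shiftDiff (quotTransCx I K)) w).ShortExact := by
  refine ⟨?_, ?_⟩
  · ext i : 1
    refine ModuleCat.hom_ext (LinearMap.ext fun x => funext fun n => ?_)
    show x.val n - _ = 0
    exact sub_eq_zero.2 (transitionMap_val I x n).symm
  refine HomologicalComplex.shortExact_of_degreewise_shortExact _ fun i => ?_
  refine { exact := ?_, mono_f := ?_, epi_g := ?_ }
  · rw [ShortComplex.moduleCat_exact_iff]
    intro (y : ∀ n, K.X i ⧸ (I ^ n • ⊤ : Submodule A (K.X i))) hy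
    have h1 : ∀ n, AdicCompletion.transitionMap I (K.X i) (Nat.le_succ n) (y (n + 1)) = y n := fun n =>
      (sub_eq_zero.1 (congrFun hy n)).symm
    refine ⟨⟨y, fun {m n} hmn => ?_⟩, rfl⟩
    induction n, hmn using Nat.le_induction with
    | base =>
      obtain ⟨z, hz⟩ := Submodule.Quotient.mk_surjective _ (y m)
      rw [← hz]
      rfl
    | succ n hn ih =>
      rw [← ih, ← h1 n]
      obtain ⟨z, hz⟩ := Submodule.Quotient.mk_surjective _ (y (n + 1))
      rw [← hz]
      rfl
  · exact (ModuleCat.mono_iff_injective _).2 fun x x' h => Subtype.ext (funext fun n => congrFun h n)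
  · refine (ModuleCat.epi_iff_surjective _).2 ?_
    intro (y : ∀ n, K.X i ⧸ (I ^ n • ⊤ : Submodule A (K.X i)))
    choose r hr using fun n => Submodule.Quotient.mk_surjective _ (y n)
    let z : ℕ → K.X i := fun n => Nat.rec 0 (fun k zk => zk - r k) n
    refine ⟨fun n => Submodule.Quotient.mk (z n), funext fun n => ?_⟩
    show Submodule.Quotient.mk (z n) - Submodule.Quotient.mk (z n - r n) = y n
    rw [← Submodule.Quotient.mk_sub, sub_sub_cancel, hr]

end Groth.Agent.CechComplLib
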