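import Groth.Agent.CechComplLib.Aug
import Groth.Agent.CechComplLib.Rlim
import Groth.Agent.KFlat.Module
import Mathlib.RingTheory.Localization.BaseChange

/-!
# The completion of local cohomology as a derived limit
-/

set_option autoImplicit false
set_option linter.style.haveILetI false
set_option backward.isDefEq.respectTransparency false

universe u

open CategoryTheory Limits Pretriangulated DerCA
open scoped TensorProduct
attribute [local instance] HasDerivedCategory.standard

noncomputable section

namespace Groth.Agent.CechComplLib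

open Groth.Agent.DComplLib

variable {A : Type u} [CommRing A] [IsNoetherianRing A] (M : ModuleCat.{u} A) [Module.Finite A M]

omit [IsNoetherianRing A] [Module.Finite A M] in
theorem flatOver_of_subsingleton {N : ModuleCat.{u} A} (h : Subsingleton N) : FlatOver M N := by
  haveI : Subsingleton (M ⊗[A] PUnit.{u + 1}) := subsingleton_of_forall_eq 0 fun x => by
    induction x with
    | zero => rfl
    | tmul m p => rw [Subsingleton.elim p 0, TensorProduct.tmul_zero]
    | add x y hx hy => rw [hx, hy, add_zero]
  exact ⟨PUnit.{u + 1}, inferInstance, inferInstance, inferInstance, ⟨LinearEquiv.ofSubsingleton _ _⟩⟩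

omit [IsNoetherianRing A] [Module.Finite A M] in
theorem flatOver_extCech : ∀ (fs : List A) (q : ℤ), FlatOver M ((extCech M fs).X q)
  | [], q => by
    by_cases hq : q = 0
    · subst hq
      exact ⟨A, inferInstance, inferInstance, inferInstance,
        ⟨(HomologicalComplex.singleObjXSelf (ComplexShape.up ℤ) 0 M).toLinearEquiv.trans (TensorProduct.rid A M).symm⟩⟩
    · exact flatOver_of_subsingleton M
        (ModuleCat.subsingleton_of_isZero (HomologicalComplex.isZero_single_obj_X _ _ _ _ hq))
  | f :: fs, q => by
    let T := Submonoid.powers f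
    obtain ⟨F, _, _, _, ⟨e⟩⟩ := flatOver_extCech fs q
    obtain ⟨F', _, _, _, ⟨e'⟩⟩ := flatOver_extCech fs (q - 1)
    haveI : Module.Flat A (Localization T) := IsLocalization.flat (Localization T) T
    let e2 : ((locFunctor T).obj ((extCech M fs).X (q - 1))) ≃ₗ[A] M ⊗[A] (Localization T ⊗[A] F') :=
      ((locFunctor T).mapIso e'.toModuleIso).toLinearEquiv ≪≫ₗ
        (LocalizedModule.equivTensorProduct T (M ⊗[A] F')).restrictScalars A ≪≫ₗ
          TensorProduct.leftComm A (Localization T) M F'
    haveI := KFlat.flat_prod (R := A) F (Localization T ⊗[A] F')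
    exact ⟨F × (Localization T ⊗[A] F'), inferInstance, inferInstance, inferInstance,
      ⟨(mappingCoconeXIso (locCxUnit T (extCech M fs)) q ≪≫ ModuleCat.biprodIsoProd _ _).toLinearEquiv ≪≫ₗ
        LinearEquiv.prodCongr e e2 ≪≫ₗ (TensorProduct.prodRight A A M F (Localization T ⊗[A] F')).symm⟩⟩

/-- The termwise completion of the extended Čech complex is its derived completion. -/
theorem isCompl_adic_extCech (I : Ideal A) [DRing.HasDerivedCompletion I] (fs : List A) :
    IsCompl (I : Set A) (DerivedCategory.Q.map (adicηCx I (extCech M fs))) :=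
  isCompl_adicηCx I (M := M) (fs.length + 1) 0 (extCech M fs)
    (fun i hi => ExtCechLib.isZero_extCech_X M fs i (by push_cast at hi; omega))
    fun i => Or.inr (flatOver_extCech M fs i)

omit [IsNoetherianRing A] [Module.Finite A M] in
/-- A natural transformation on a complex concentrated in one degree. -/
theorem natTrans_single {F G : ModuleCat.{u} A ⥤ ModuleCat.{u} A} [F.Additive] [G.Additive] (η : F ⟶ G) (a : ℤ) :
    (NatTrans.mapHomologicalComplex η (ComplexShape.up ℤ)).app
        ((HomologicalComplex.single (ModuleCat.{u} A) (ComplexShape.up ℤ) a).obj M) ≫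
      ((HomologicalComplex.singleMapHomologicalComplex G (ComplexShape.up ℤ) a).app M).hom =
    ((HomologicalComplex.singleMapHomologicalComplex F (ComplexShape.up ℤ) a).app M).hom ≫
      (HomologicalComplex.single (ModuleCat.{u} A) (ComplexShape.up ℤ) a).map (η.app M) := by
  refine HomologicalComplex.to_single_hom_ext ?_
  rw [HomologicalComplex.comp_f, HomologicalComplex.comp_f, Iso.app_hom, Iso.app_hom,
    HomologicalComplex.singleMapHomologicalComplex_hom_app_self,
    HomologicalComplex.singleMapHomologicalComplex_hom_app_self, HomologicalComplex.single_map_f_self]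
  simp

variable (I J : Ideal A) [DRing.HasRgammaI J] [DRing.HasDerivedCompletion I]

omit [Module.Finite A M] [DRing.HasDerivedCompletion I] in
/-- The comparison isomorphisms commute with the transition maps. -/
theorem exists_theta {fs : List A} (hfs : Ideal.ofList fs = J) :
    ∃ θ : ∀ n : ℕ, DRing.toD ((quotCx (I ^ n)).obj (extCech M fs)) ≅
        (DRing.RgammaI J).obj ((DerivedCategory.singleFunctor (ModuleCat.{u} A) 0).obj ((quotF (I ^ n)).obj M)),
      ∀ n, DerivedCategory.Q.map (quotTransCx I (extCech M fs) n) ≫ (θ n).hom = (θ (n + 1)).hom ≫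
        (DRing.RgammaI J).map ((DerivedCategory.singleFunctor (ModuleCat.{u} A) 0).map ((quotTrans I n).app M)) := by
  choose θ hθ using fun n : ℕ => exists_iso_RgammaI_quot J (I ^ n) M hfs
  refine ⟨θ, fun n => (TorsCoreflLib.comp_ε_bijective J _ _ (pt_quot_extCech J (I ^ (n + 1)) M hfs)).1 ?_⟩
  show (DerivedCategory.Q.map _ ≫ (θ n).hom) ≫ (DRing.RgammaIε J).app _ =
    ((θ (n + 1)).hom ≫ _) ≫ (DRing.RgammaIε J).app _
  have hnat := (DRing.RgammaIε J).naturality
    ((DerivedCategory.singleFunctor (ModuleCat.{u} A) 0).map ((quotTrans I n).app M))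
  dsimp only [Functor.id_map, Functor.id_obj] at hnat
  rw [Category.assoc, hθ, Category.assoc, hnat, reassoc_of% (hθ (n + 1))]
  refine (DerivedCategory.Q.map_comp _ _).symm.trans (Eq.trans ?_ (DerivedCategory.Q.map_comp _ _))
  refine congrArg DerivedCategory.Q.map ?_
  show (NatTrans.mapHomologicalComplex (quotTrans I n) (ComplexShape.up ℤ)).app _ ≫ _ ≫ _ = _
  rw [← Category.assoc, ← (NatTrans.mapHomologicalComplex (quotTrans I n) (ComplexShape.up ℤ)).naturality,
    Category.assoc, natTrans_single, Category.assoc]
  rfl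

/-- The derived completion of `RΓ_J M` is the derived limit of the `RΓ_J (M / I ^ n M)`. -/
theorem derivedCompletion_isRlim [∀ K : ℕ → Dual.D A, HasProduct K] :
    DCoh.IsRlim (fun n : ℕ => (DRing.RgammaI J).obj
        ((DerivedCategory.singleFunctor (ModuleCat.{u} A) 0).obj ((quotF (I ^ n)).obj M)))
      (fun n : ℕ => (DRing.RgammaI J).map
        ((DerivedCategory.singleFunctor (ModuleCat.{u} A) 0).map ((quotTrans I n).app M)))
      ((DRing.derivedCompletion I).obj ((DRing.RgammaI J).obj
        ((DerivedCategory.singleFunctor (ModuleCat.{u} A) 0).obj M))).obj ∧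
    ∀ i : ℤ, i < 0 → Subsingleton (Dual.HD A ((DRing.derivedCompletion I).obj ((DRing.RgammaI J).obj
      ((DerivedCategory.singleFunctor (ModuleCat.{u} A) 0).obj M))).obj i) := by
  obtain ⟨fs, hfs⟩ := exists_ofList (J.fg_of_isNoetherianRing)
  obtain ⟨θ₀, -⟩ := exists_iso_RgammaI_extCech J M hfs
  obtain ⟨e, -⟩ := ((isCompl_adic_extCech M I fs).of_iso θ₀.symm).exists_iso
    (isCompl_toDerivedCompletion (I := I) _)
  obtain ⟨θ, hθ⟩ := exists_theta M I J hfs
  obtain ⟨w, hS⟩ := exact_adicToPi I (extCech M fs)
  refine ⟨?_, fun i hi => ?_⟩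
  · exact isRlim_of_ses (K := fun n => (quotCx (I ^ n)).obj (extCech M fs))
      (X := fun n : ℕ => (DRing.RgammaI J).obj
        ((DerivedCategory.singleFunctor (ModuleCat.{u} A) 0).obj ((quotF (I ^ n)).obj M)))
      (quotTransCx I (extCech M fs)) (L := (adicCx I).obj (extCech M fs)) (adicToPi I (extCech M fs)) w hS
      (fun n : ℕ => (DRing.RgammaI J).map
        ((DerivedCategory.singleFunctor (ModuleCat.{u} A) 0).map ((quotTrans I n).app M))) θ hθ e
  haveI : Subsingleton (((adicCx I).obj (extCech M fs)).homology i) :=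
    ModuleCat.subsingleton_of_isZero (ShortComplex.isZero_homology_of_isZero_X₂ _
      ((adicF I).map_isZero (ExtCechLib.isZero_extCech_X M fs i (Or.inl hi))))
  exact (((DerivedCategory.homologyFunctor (ModuleCat.{u} A) i).mapIso e).toLinearEquiv.symm.trans
    (hQIso _ i).toLinearEquiv).injective.subsingleton

end Groth.Agent.CechComplLib
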